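import Cfsg.Agent.H653.Sieve.Main
import Cfsg.Agent.H65.Ore.Prd

/-!
# The averaged class product sieve

`P`, `Q` Sylow subgroups of prime order (`P = Q` allowed), `W`, `W'` their columns (`H653/Sieve`: `e W χ = ∑_{x ∈ P, x ≠ 1} χ(x)`,
`W 1 = t`, `e t = p - 1`). The structure constants of the pairs `(x, y)`, `x ∈ P`, `y ∈ Q`, `x, y ≠ 1`, are summed up:

* `exists_prd_of_ne_zero`, `exists_prd_of_lt` :
  `(∑_{χ ≠ 1} (W χ W' χ / χ(1))²) (|C(g)| - 1) < (t t')²` gives `Prd x y g` for some `x ∈ P`, `y ∈ Q`, `x, y ≠ 1`;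
* `avg` : the same with a certificate (linear programming bound for the sum, the columns of several primes may be used,
  each with a centralizer of any order `p k`) : `|C(g)| ≤ c` gives `g = x * y`, `x` of order `p`, `y` of order `p'`.
-/

set_option autoImplicit false
set_option linter.unusedSectionVars false

open Cfsg Subgroup
open scoped ComplexConjugate

namespace Cfsg.Agent.H938.Pw.Avg

open Cfsg.Agent.Characters.Core
open Cfsg.Agent.H653.Sieve Cfsg.Agent.H653.Sys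
open Cfsg.Agent.H65.Ore

universe u

variable {G : Type u} [Group G] [Finite G] [Fintype (IrrCharacter G)]

/-- Sum of structure constants. -/
theorem exists_prd_of_ne_zero {H K : Subgroup G} {g : G}
    (h : ∑ χ : IrrCharacter G, csum H (χ : G → ℂ) * csum K (χ : G → ℂ) * conj ((χ : G → ℂ) g) / (χ : G → ℂ) 1 ≠ 0) :
    ∃ x ∈ H, x ≠ 1 ∧ ∃ y ∈ K, y ≠ 1 ∧ Prd x y g := by
  classical
  by_contra hno
  push Not at hno
  apply h
  have := Fintype.ofFinite H
  have := Fintype.ofFinite K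
  have h1 : ∀ χ : IrrCharacter G, csum H (χ : G → ℂ) * csum K (χ : G → ℂ) * conj ((χ : G → ℂ) g) / (χ : G → ℂ) 1 =
      ∑ x ∈ (Finset.univ : Finset H).erase 1, ∑ y ∈ (Finset.univ : Finset K).erase 1,
        (χ : G → ℂ) x * (χ : G → ℂ) y * conj ((χ : G → ℂ) g) / (χ : G → ℂ) 1 := by
    intro χ
    rw [csum_eq_erase, csum_eq_erase, Finset.sum_mul_sum, Finset.sum_mul, Finset.sum_div]
    refine Finset.sum_congr rfl fun x _ => ?_
    rw [Finset.sum_mul, Finset.sum_div]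
  rw [Finset.sum_congr rfl fun χ _ => h1 χ, Finset.sum_comm, Finset.sum_eq_zero]
  intro x hx
  rw [Finset.sum_comm, Finset.sum_eq_zero]
  intro y hy
  by_contra h2
  exact hno x x.2 (fun e => (Finset.mem_erase.1 hx).1 (Subtype.ext e)) y y.2
    (fun e => (Finset.mem_erase.1 hy).1 (Subtype.ext e)) (prd_of_ne_zero h2)

theorem deg_pos (χ : IrrCharacter G) : 0 < H653.Sieve.deg χ :=
  Nat.pos_of_ne_zero (Blocks.Knorr.charDegree_ne_zero χ.2)

theorem norm_apply_one (χ : IrrCharacter G) : ‖(χ : G → ℂ) 1‖ = (H653.Sieve.deg χ : ℝ) := by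
  rw [deg_cast, Complex.norm_natCast]

/-- **The averaged sieve.** -/
theorem exists_prd_of_lt [DecidableEq (IrrCharacter G)] {H K : Subgroup G} {e e' : ℕ} {W W' : IrrCharacter G → ℤ}
    (hW : IsCol H e W) (hW' : IsCol K e' W') (he : e ≠ 0) (he' : e' ≠ 0) {g : G}
    (h : (∑ χ ∈ Finset.univ.erase (one1 G), (((W χ * W' χ : ℤ) : ℝ) / (H653.Sieve.deg χ : ℝ)) ^ 2) *
      ((Nat.card (centralizer ({g} : Set G)) : ℝ) - 1) < ((W (one1 G) * W' (one1 G) : ℤ) : ℝ) ^ 2) :
    ∃ x ∈ H, x ≠ 1 ∧ ∃ y ∈ K, y ≠ 1 ∧ Prd x y g := by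
  apply exists_prd_of_ne_zero
  intro h0
  have hc : ((e : ℂ) * e') ≠ 0 := by
    have h1 : (e : ℂ) ≠ 0 := by exact_mod_cast he
    have h2 : (e' : ℂ) ≠ 0 := by exact_mod_cast he'
    exact mul_ne_zero h1 h2
  have h1 : ∑ χ : IrrCharacter G, ((W χ * W' χ : ℤ) : ℂ) * conj ((χ : G → ℂ) g) / (χ : G → ℂ) 1 = 0 := by
    have h2 : ((e : ℂ) * e') * ∑ χ : IrrCharacter G, ((W χ * W' χ : ℤ) : ℂ) * conj ((χ : G → ℂ) g) / (χ : G → ℂ) 1 = 0 := by
      rw [← h0, Finset.mul_sum]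
      refine Finset.sum_congr rfl fun χ _ => ?_
      rw [← hW χ, ← hW' χ]
      push_cast
      ring
    exact (mul_eq_zero.1 h2).resolve_left hc
  rw [← Finset.add_sum_erase Finset.univ _ (Finset.mem_univ (one1 G))] at h1
  simp only [one1_apply, map_one, mul_one, div_one] at h1
  have h2 : ∑ χ ∈ Finset.univ.erase (one1 G), ((W χ * W' χ : ℤ) : ℂ) * conj ((χ : G → ℂ) g) / (χ : G → ℂ) 1 =
      -((W (one1 G) * W' (one1 G) : ℤ) : ℂ) := by
    linear_combination h1
  have h3 := norm_sum_le (Finset.univ.erase (one1 G))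
    (fun χ : IrrCharacter G => ((W χ * W' χ : ℤ) : ℂ) * conj ((χ : G → ℂ) g) / (χ : G → ℂ) 1)
  rw [h2, norm_neg, Complex.norm_intCast] at h3
  have h4 : ∀ χ : IrrCharacter G, ‖((W χ * W' χ : ℤ) : ℂ) * conj ((χ : G → ℂ) g) / (χ : G → ℂ) 1‖ =
      |((W χ * W' χ : ℤ) : ℝ)| / (H653.Sieve.deg χ : ℝ) * ‖(χ : G → ℂ) g‖ := by
    intro χ
    rw [norm_div, norm_mul, Complex.norm_conj, Complex.norm_intCast, norm_apply_one]
    ring
  rw [Finset.sum_congr rfl fun χ _ => h4 χ] at h3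
  have h5 := Finset.sum_mul_sq_le_sq_mul_sq (Finset.univ.erase (one1 G))
    (fun χ : IrrCharacter G => |((W χ * W' χ : ℤ) : ℝ)| / (H653.Sieve.deg χ : ℝ)) (fun χ : IrrCharacter G => ‖(χ : G → ℂ) g‖)
  rw [sum_erase_sq] at h5
  have h6 : ∀ χ : IrrCharacter G, (|((W χ * W' χ : ℤ) : ℝ)| / (H653.Sieve.deg χ : ℝ)) ^ 2 =
      (((W χ * W' χ : ℤ) : ℝ) / (H653.Sieve.deg χ : ℝ)) ^ 2 := by
    intro χ
    rw [div_pow, div_pow, sq_abs]
  rw [Finset.sum_congr rfl fun χ _ => h6 χ] at h5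
  have h7 : ((W (one1 G) * W' (one1 G) : ℤ) : ℝ) ^ 2 ≤
      (∑ χ ∈ Finset.univ.erase (one1 G), |((W χ * W' χ : ℤ) : ℝ)| / (H653.Sieve.deg χ : ℝ) * ‖(χ : G → ℂ) g‖) ^ 2 := by
    rw [← sq_abs]
    exact pow_le_pow_left₀ (abs_nonneg _) h3 2
  linarith

/-! ### The columns -/

/-- The column of the prime `D.p`. -/
def Good (D : PD) (W : IrrCharacter G → ℤ) : Prop :=
  D.p.Prime ∧ D.e ≠ 0 ∧ (∃ P : Subgroup G, Nat.card P = D.p ∧ IsCol P D.e W) ∧
    (∀ χ : IrrCharacter G, (χ : G → ℂ) = 1 → W χ = D.t) ∧ ∀ χ : IrrCharacter G, (H653.Sieve.deg χ % D.p, W χ) ∈ D.wl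

theorem exists_sys [IsSimpleGroup G] (hG : ¬ IsMulCommutative G) {N : ℕ} (hN : Nat.card G = N) :
    ∀ {Ds : List PD}, (Ds.all (PD.ok N)) = true → (∀ D ∈ Ds, D.Cent G) →
    ∃ Ws : List (IrrCharacter G → ℤ), SysOK (fun g : G => orderOf g) (Ds.map PD.fam) Ws ∧ List.Forall₂ Good Ds Ws
  | [], _, _ => ⟨[], .nil, .nil⟩
  | D :: Ds, h, hx => by
    rw [List.all_cons, Bool.and_eq_true] at h
    obtain ⟨Ws, hWs, hg⟩ := exists_sys hG hN h.2 (fun D hD => hx D (List.mem_cons_of_mem _ hD))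
    obtain ⟨h1, h2⟩ := h
    simp only [PD.ok, Bool.and_eq_true, decide_eq_true_eq] at h1
    obtain ⟨⟨hp, hn⟩, hs⟩ := h1
    have := Fact.mk hp
    obtain ⟨x, hx1, hx2⟩ := hx D List.mem_cons_self
    obtain ⟨P, W, hP, he, hcol, hok⟩ := H653.Sieve.exists_col hG hN hx1 hx2 D.e D.t D.wl D.c D.b hn
    have hfam : FamOK (fun g : G => orderOf g) D.fam [W] := by
      refine ⟨.cons ⟨supp_of_isCol hP he hcol, ?_, hok.cnt, hok.one⟩ .nil, fun χ => mem_pick (hok.mem χ)⟩
      rw [hs]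
      exact hok.sq
    exact ⟨W :: Ws, .cons hfam hWs, .cons ⟨hp, he, ⟨P, hP, hcol⟩, hok.one, hok.mem⟩ hg⟩

theorem Good.order {D : PD} {P : Subgroup G} (hp : D.p.Prime) (hP : Nat.card P = D.p) {x : G} (hx : x ∈ P)
    (hx1 : x ≠ 1) : orderOf x = D.p := by
  have h1 : orderOf (⟨x, hx⟩ : P) ∣ D.p := hP ▸ orderOf_dvd_natCard _
  rw [Subgroup.orderOf_mk] at h1
  rcases (Nat.dvd_prime hp).1 h1 with h | h
  · exact absurd (orderOf_eq_one_iff.1 h) hx1
  · exact h

/-! ### The certificate -/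

/-- all the tuples of values (without the residues) -/
def allT : List PD → (List ℤ → Bool) → Bool
  | [], k => k []
  | D :: Ds, k => D.wl.all fun u => allT Ds fun v => k (u.2 :: v)

theorem allT_spec (χ : IrrCharacter G) : ∀ {Ds : List PD} {Ws : List (IrrCharacter G → ℤ)}, List.Forall₂ Good Ds Ws →
    ∀ {k : List ℤ → Bool}, allT Ds k = true → k (Ws.map fun W => W χ) = true
  | [], _, .nil, k, hk => by simpa [allT] using hk
  | D :: Ds, W :: Ws, .cons h hs, k, hk => by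
    rw [allT, List.all_eq_true] at hk
    exact allT_spec χ hs (hk _ (h.2.2.2.2 χ))

/-- the inequality for one character, `d < √B` -/
def ineqD (Dn a : ℤ) (cs : List Cf) (ex : List Ex) (i j : ℕ) (d : ℕ) (ws : List ℤ) : Bool :=
  decide (Dn * ((ws.getD i 0 * ws.getD j 0) * (ws.getD i 0 * ws.getD j 0)) ≤
    (a * d * d + quad d cs ws + exSum d ex) * (d * d))

def okA (Dn a : ℤ) (cs : List Cf) (ex : List Ex) (Ds : List PD) (A : ℕ → Bool) (i j : ℕ) (d : ℕ) : Bool :=
  bif Nat.beq d 1 then true else bif A d then allV (Ds.map PD.fam) d (ineqD Dn a cs ex i j d) else true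

/-- the inequality for `B ≤ d²` : no `d` on the right hand side -/
def bigOK (N B : ℕ) (Dn a : ℤ) (cs : List Cf) (ex : List Ex) (Ds : List PD) (i j : ℕ) : Bool :=
  Nat.ble N B || (decide (0 ≤ a) && ex.isEmpty && (cs.all fun c => decide (c.g = 0)) &&
    allT Ds fun ws => decide (Dn * ((ws.getD i 0 * ws.getD j 0) * (ws.getD i 0 * ws.getD j 0)) ≤ quad 0 cs ws * B) &&
      decide (0 ≤ quad 0 cs ws))

/-- the bound for the sum -/
def bnd (N : ℕ) (a : ℤ) (cs : List Cf) (ex : List Ex) (Ds : List PD) : ℤ :=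
  a * N + tot cs (colsOf (Ds.map PD.fam)) + exTot ex - (a + quad 1 cs ((colsOf (Ds.map PD.fam)).map Col.w) + exSum 1 ex)

/-- **The check.** -/
def chk (N : ℕ) (L : List (ℕ × ℕ)) (Ds : List PD) (Cs : List Cond) (A : ℕ → Bool) (B : ℕ) (Dn a : ℤ) (cs : List Cf)
    (ms : List ℤ) (i j c : ℕ) : Bool :=
  sgOK Cs ms && flagOK cs (colsOf (Ds.map PD.fam)) && decide (0 < Dn) &&
    decide (bnd N a cs (exOf Cs ms) Ds * (c - 1) < Dn * (((Ds.map PD.t).getD i 0 * (Ds.map PD.t).getD j 0 : ℕ) ^ 2 : ℕ)) &&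
    bigOK N B Dn a cs (exOf Cs ms) Ds i j && allDiv B (okA Dn a cs (exOf Cs ms) Ds A i j) L 1

theorem quad_eq {d : ℕ} : ∀ {cs : List Cf} {ws : List ℤ}, (cs.all fun c => decide (c.g = 0)) = true →
    quad d cs ws = quad 0 cs ws
  | [], ws, _ => by cases ws <;> simp [quad]
  | c :: cs, [], _ => by simp [quad]
  | c :: cs, w :: ws, h => by
    rw [List.all_cons, Bool.and_eq_true, decide_eq_true_eq] at h
    rw [quad, quad, quad_eq h.2, h.1]
    simp

theorem map_getD (χ : IrrCharacter G) (Ws : List (IrrCharacter G → ℤ)) (i : ℕ) :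
    (Ws.map fun W => W χ).getD i 0 = Ws.getD i 0 χ := by
  induction Ws generalizing i with
  | nil => simp
  | cons W Ws ih =>
    cases i with
    | zero => simp
    | succ i => simpa using ih i

/-- the bound of the sum -/
theorem sum_le [IsSimpleGroup G] {N : ℕ} {L : List (ℕ × ℕ)} (hN : Nat.card G = N) (hnp : ¬ N.Prime)
    (pr : (L.all fun pa => Nat.Prime pa.1) = true) (fac : facProd L = N) [DecidableEq (IrrCharacter G)]
    {Ds : List PD} {Ws : List (IrrCharacter G → ℤ)} (hs : SysOK (fun g : G => orderOf g) (Ds.map PD.fam) Ws)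
    (hg : List.Forall₂ Good Ds Ws) {A : ℕ → Bool}
    (hA : ∀ χ : IrrCharacter G, (χ : G → ℂ) ≠ 1 → A (H653.Sieve.deg χ) = true) {B : ℕ} {Dn a : ℤ} {cs : List Cf}
    {ex : List Ex} (hex : ∀ e ∈ ex, e.Holds G) {i j : ℕ} (hflag : flagOK cs (colsOf (Ds.map PD.fam)) = true)
    (hbig : bigOK N B Dn a cs ex Ds i j = true) (hall : allDiv B (okA Dn a cs ex Ds A i j) L 1 = true) :
    (Dn : ℝ) * ∑ χ ∈ Finset.univ.erase (one1 G), (((Ws.getD i 0 χ * Ws.getD j 0 χ : ℤ) : ℝ) / (H653.Sieve.deg χ : ℝ)) ^ 2 ≤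
      (bnd N a cs ex Ds : ℝ) := by
  have := Fintype.ofFinite G
  have hsq : ∑ χ : IrrCharacter G, (H653.Sieve.deg χ : ℤ) * H653.Sieve.deg χ = N := by
    have h3 := SmallSimple.DegreeData.sum_sq (G := G)
    rw [← hN]
    rw [← h3]
    push_cast
    refine Finset.sum_congr rfl fun χ _ => ?_
    unfold H653.Sieve.deg
    ring
  set F : IrrCharacter G → ℤ := fun χ =>
    a * H653.Sieve.deg χ * H653.Sieve.deg χ + quad (H653.Sieve.deg χ) cs (Ws.map fun W => W χ) + exSum (H653.Sieve.deg χ) ex with hF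
  have hFs : ∑ χ : IrrCharacter G, F χ ≤ a * N + tot cs (colsOf (Ds.map PD.fam)) + exTot ex := by
    rw [hF, Finset.sum_add_distrib, Finset.sum_add_distrib, sum_quad orderOf_conj orderOf_one hs.cols hflag]
    have h3 : ∑ χ : IrrCharacter G, a * (H653.Sieve.deg χ : ℤ) * H653.Sieve.deg χ = a * N := by
      rw [← hsq, Finset.mul_sum]
      exact Finset.sum_congr rfl fun χ _ => by ring
    rw [h3]
    have := exSum_le hex
    linarith
  have hd1 : H653.Sieve.deg (one1 G) = 1 := by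
    unfold H653.Sieve.deg charDegree
    rw [one1_apply]
    simp
  have hone : ((one1 G : IrrCharacter G) : G → ℂ) = 1 := rfl
  have hF1 : F (one1 G) = a + quad 1 cs ((colsOf (Ds.map PD.fam)).map Col.w) + exSum 1 ex := by
    have h3 : (Ws.map fun W => W (one1 G)) = (colsOf (Ds.map PD.fam)).map Col.w := by
      have h4 := hs.cols
      revert h4
      generalize colsOf (Ds.map PD.fam) = ps
      intro h4
      clear * - h4 hone
      induction h4 with
      | nil => rfl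
      | cons h1 _ ih => rw [List.map_cons, List.map_cons, ih, h1.one (one1 G) hone]
    rw [hF]
    simp only []
    rw [h3, hd1]
    push_cast
    ring
  have hFe : ∑ χ ∈ Finset.univ.erase (one1 G), F χ ≤ bnd N a cs ex Ds := by
    have h3 := Finset.add_sum_erase Finset.univ F (Finset.mem_univ (one1 G))
    rw [hF1] at h3
    rw [bnd]
    linarith
  -- the inequality for one character
  have key : ∀ χ ∈ Finset.univ.erase (one1 G), (Dn : ℝ) * (((Ws.getD i 0 χ * Ws.getD j 0 χ : ℤ) : ℝ) / (H653.Sieve.deg χ : ℝ)) ^ 2 ≤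
      (F χ : ℝ) := by
    intro χ hχ
    have hχ1 : (χ : G → ℂ) ≠ 1 := coe_ne_one (Finset.ne_of_mem_erase hχ)
    have hdpos : (0 : ℝ) < (H653.Sieve.deg χ : ℝ) := by exact_mod_cast deg_pos χ
    have hdvd : H653.Sieve.deg χ ∣ N := by
      rw [← hN]
      exact Blocks.Knorr.charDegree_dvd χ.2
    have hlt : H653.Sieve.deg χ * H653.Sieve.deg χ < N := by
      have h3 : (H653.Sieve.deg χ : ℤ) * H653.Sieve.deg χ + (H653.Sieve.deg (one1 G) : ℤ) * H653.Sieve.deg (one1 G) ≤ N := by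
        rw [← hsq]
        have h4 : ∑ χ' ∈ ({χ, one1 G} : Finset (IrrCharacter G)), (H653.Sieve.deg χ' : ℤ) * H653.Sieve.deg χ' ≤
            ∑ χ' : IrrCharacter G, (H653.Sieve.deg χ' : ℤ) * H653.Sieve.deg χ' :=
          Finset.sum_le_sum_of_subset_of_nonneg (Finset.subset_univ _) fun χ' _ _ => by positivity
        rwa [Finset.sum_pair (Finset.ne_of_mem_erase hχ)] at h4
      rw [hd1] at h3
      have : ((H653.Sieve.deg χ * H653.Sieve.deg χ : ℕ) : ℤ) < N := by push_cast at h3 ⊢; linarith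
      exact_mod_cast this
    have hgoal : Dn * ((Ws.getD i 0 χ * Ws.getD j 0 χ) * (Ws.getD i 0 χ * Ws.getD j 0 χ)) ≤
        F χ * (H653.Sieve.deg χ * H653.Sieve.deg χ) := by
      by_cases hB : H653.Sieve.deg χ * H653.Sieve.deg χ < B
      · have hpr : ∀ pa ∈ L, pa.1.Prime := by
          intro pa hpa
          have := List.all_eq_true.1 pr pa hpa
          simpa using this
        have h3 := allDiv_spec hpr hall (H653.Sieve.deg χ) (by rw [fac]; exact hdvd) (by rwa [one_mul])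
        rw [one_mul] at h3
        have h5 : Nat.beq (H653.Sieve.deg χ) 1 = false := by
          rw [Bool.eq_false_iff]
          intro h6
          exact hχ1 (H653.Sieve.one_of_deg (by rwa [hN]) χ (Nat.eq_of_beq_eq_true h6))
        rw [okA, h5, cond_false, hA χ hχ1, cond_true] at h3
        have h8 := allV_spec hs χ h3
        rw [ineqD, decide_eq_true_eq, map_getD, map_getD] at h8
        exact h8
      · rw [bigOK, Bool.or_eq_true] at hbig
        rcases hbig with h3 | h3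
        · exact absurd (Nat.le_of_ble_eq_true h3) (by omega)
        · simp only [Bool.and_eq_true, decide_eq_true_eq, List.isEmpty_iff] at h3
          obtain ⟨⟨⟨ha, hex0⟩, hg0⟩, h4⟩ := h3
          have h5 := allT_spec χ hg h4
          simp only [Bool.and_eq_true, decide_eq_true_eq, map_getD] at h5
          obtain ⟨h5, h6⟩ := h5
          have h7 : F χ = a * H653.Sieve.deg χ * H653.Sieve.deg χ + quad 0 cs (Ws.map fun W => W χ) := by
            rw [hF]
            simp only []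
            rw [quad_eq hg0, hex0]
            simp [H653.Sys.exSum]
          have h8 : (B : ℤ) ≤ (H653.Sieve.deg χ : ℤ) * H653.Sieve.deg χ := by exact_mod_cast not_lt.1 hB
          rw [h7]
          have h9 : 0 ≤ a * (H653.Sieve.deg χ : ℤ) * H653.Sieve.deg χ * ((H653.Sieve.deg χ : ℤ) * H653.Sieve.deg χ) := by positivity
          nlinarith [mul_le_mul_of_nonneg_left h8 h6]
    rw [div_pow, ← mul_div_assoc, div_le_iff₀ (by positivity)]
    have h3 : ((Dn * ((Ws.getD i 0 χ * Ws.getD j 0 χ) * (Ws.getD i 0 χ * Ws.getD j 0 χ)) : ℤ) : ℝ) ≤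
        ((F χ * (H653.Sieve.deg χ * H653.Sieve.deg χ) : ℤ) : ℝ) := by exact_mod_cast hgoal
    push_cast at h3 ⊢
    linarith
  rw [Finset.mul_sum]
  refine (Finset.sum_le_sum key).trans ?_
  exact_mod_cast hFe

/-- **The averaged sieve with a certificate**: `i`, `j` are the positions of the two primes in the list `Ds` (`i = j` allowed). -/
theorem avg [IsSimpleGroup G] {N : ℕ} {L : List (ℕ × ℕ)} (hN : Nat.card G = N) (hnp : ¬ N.Prime)
    (pr : (L.all fun pa => Nat.Prime pa.1) = true) (fac : facProd L = N) {Ds : List PD}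
    (hD : (Ds.all (PD.ok N)) = true) (hx : ∀ D ∈ Ds, D.Cent G) {Cs : List Cond} (hC : ∀ c ∈ Cs, c.Holds G)
    {A : ℕ → Bool} (hA : ∀ χ : IrrCharacter G, (χ : G → ℂ) ≠ 1 → A (charDegree (χ : G → ℂ)) = true) {p q : ℕ}
    (i j : ℕ) (hi : (Ds.map PD.p)[i]? = some p) (hj : (Ds.map PD.p)[j]? = some q) (B : ℕ) (Dn a : ℤ) (cs : List Cf)
    (ms : List ℤ) (c : ℕ) (h : chk N L Ds Cs A B Dn a cs ms i j c = true) {g : G}
    (hg : Nat.card (centralizer ({g} : Set G)) ≤ c) :
    ∃ x y : G, orderOf x = p ∧ orderOf y = q ∧ g = x * y := by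
  classical
  have hG : ¬ IsMulCommutative G := by
    intro h
    let _ : CommGroup G := { (inferInstance : Group G) with mul_comm := fun a b => h.is_comm.comm a b }
    have h1 : (Nat.card G).Prime := IsSimpleGroup.prime_card
    rw [hN] at h1
    exact hnp h1
  simp only [chk, Bool.and_eq_true, decide_eq_true_eq] at h
  obtain ⟨⟨⟨⟨⟨h1, h2⟩, h3⟩, h4⟩, h5⟩, h6⟩ := h
  obtain ⟨Ws, hs, hgood⟩ := exists_sys hG hN hD hx
  have hsum := sum_le hN hnp pr fac hs hgood hA (exOf_holds hC h1) h2 h5 h6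
  have hcol : ∀ {k r : ℕ}, (Ds.map PD.p)[k]? = some r → ∃ D : PD, D.p = r ∧ (Ds.map PD.t).getD k 0 = D.t ∧
      Good D (Ws.getD k 0) := by
    intro k r hk
    clear * - hk hgood
    induction hgood generalizing k with
    | nil => simp at hk
    | @cons D W Ds Ws h1 _ ih =>
      cases k with
      | zero =>
        simp only [List.map_cons, List.getElem?_cons_zero, Option.some.injEq] at hk
        exact ⟨D, hk, by simp, by simpa using h1⟩
      | succ k =>
        simp only [List.map_cons, List.getElem?_cons_succ] at hk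
        obtain ⟨D', h2, h3, h4⟩ := ih hk
        exact ⟨D', h2, by simpa using h3, by simpa using h4⟩
  obtain ⟨D, rfl, hDt, hDp, hDe, ⟨P, hP, hPc⟩, hD1, -⟩ := hcol hi
  obtain ⟨D', rfl, hDt', hDp', hDe', ⟨Q, hQ, hQc⟩, hD1', -⟩ := hcol hj
  have hc1 : 1 ≤ Nat.card (centralizer ({g} : Set G)) := Nat.card_pos
  obtain ⟨x, hx, hx1, y, hy, hy1, b, b', hb⟩ := exists_prd_of_lt (g := g) hPc hQc hDe hDe' (by
    rw [hD1 (one1 G) rfl, hD1' (one1 G) rfl]
    have hDn : (0 : ℝ) < (Dn : ℝ) := by exact_mod_cast h3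
    rw [hDt, hDt'] at h4
    have h7 : ((bnd N a cs (exOf Cs ms) Ds * (c - 1) : ℤ) : ℝ) < ((Dn * ((D.t * D'.t : ℕ) ^ 2 : ℕ) : ℤ) : ℝ) := by
      exact_mod_cast h4
    push_cast at h7
    have h8 : (Nat.card (centralizer ({g} : Set G)) : ℝ) ≤ c := by exact_mod_cast hg
    have h9 : (1 : ℝ) ≤ (Nat.card (centralizer ({g} : Set G)) : ℝ) := by exact_mod_cast hc1
    set s := ∑ χ ∈ Finset.univ.erase (one1 G), (((Ws.getD i 0 χ * Ws.getD j 0 χ : ℤ) : ℝ) / (H653.Sieve.deg χ : ℝ)) ^ 2 with hs'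
    have h10 : 0 ≤ s := Finset.sum_nonneg fun _ _ => by positivity
    have h11 : (Dn : ℝ) * (s * ((Nat.card (centralizer ({g} : Set G)) : ℝ) - 1)) ≤
        (bnd N a cs (exOf Cs ms) Ds : ℝ) * ((c : ℝ) - 1) := by
      calc _ = ((Dn : ℝ) * s) * ((Nat.card (centralizer ({g} : Set G)) : ℝ) - 1) := by ring
        _ ≤ ((Dn : ℝ) * s) * ((c : ℝ) - 1) := by
            apply mul_le_mul_of_nonneg_left (by linarith) (by positivity)
        _ ≤ _ := by
            apply mul_le_mul_of_nonneg_right hsum (by linarith)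
    have h12 : (Dn : ℝ) * (s * ((Nat.card (centralizer ({g} : Set G)) : ℝ) - 1)) <
        (Dn : ℝ) * (((D.t * D'.t : ℤ) : ℝ) ^ 2) := by
      push_cast
      exact lt_of_le_of_lt h11 h7
    exact lt_of_mul_lt_mul_left h12 hDn.le)
  refine ⟨b * x * b⁻¹, b' * y * b'⁻¹, ?_, ?_, hb⟩
  · rw [orderOf_conj (b * x * b⁻¹) x (isConj_iff.2 ⟨b⁻¹, by group⟩)]
    exact Good.order hDp hP hx hx1
  · rw [orderOf_conj (b' * y * b'⁻¹) y (isConj_iff.2 ⟨b'⁻¹, by group⟩)]
    exact Good.order hDp' hQ hy hy1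

end Cfsg.Agent.H938.Pw.Avg
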