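import Cfsg.Agent.H938.Pw.Avg
import Cfsg.Agent.H798.RowTwC
import Cfsg.Agent.H892.TExcA
import Cfsg.Agent.H622.KGV.Deg
import Cfsg.Agent.H687.Gen
import Cfsg.Agent.H626.IP
import Cfsg.Agent.S1062
import Cfsg.Agent.S1054

/-!
# The averaged sieve for `F₄(3)` (S2465)

`|K| = 3`, `G = F₄(K)`:

* `exists_73`, `exists_41` : elements of order `73`, `41` with centralizers of order `73`, `82`;
* `deg_ge` : nontrivial degrees are `≥ 2187`;
* `prod` : `|C(g)| ≤ 4976985092` gives `g = x * y` with `x` of order `73`, `y` of order `41`.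
-/

set_option autoImplicit false

namespace Cfsg.Agent.H938.Pw.FThree

open Cfsg Cfsg.Lie Subgroup
open Cfsg.Agent.H653.Sieve Cfsg.Agent.H653.Sys Cfsg.Agent.H938.Pw.Avg

universe u

variable {K : Type u} [Field K] [Fintype K]

/-- an element of prime order `r` in a cyclic subgroup `T` containing the centralizers of these elements -/
theorem exists_cent {G : Type*} [Group G] [Finite G] {T : Subgroup G} (hT : IsCyclic ↥T) {r n : ℕ} (hr : r.Prime)
    (hn : Nat.card ↥T = n) (hrn : r ∣ n) (h : ∀ y ∈ T, orderOf y = r → centralizer ({y} : Set G) ≤ T) :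
    ∃ x : G, orderOf x = r ∧ Nat.card (centralizer ({x} : Set G)) = n := by
  have := Fact.mk hr
  obtain ⟨x, hx⟩ := exists_prime_orderOf_dvd_card' (G := ↥T) r (by rw [hn]; exact hrn)
  have hx' : orderOf (x : G) = r := by rw [orderOf_coe, hx]
  refine ⟨x, hx', ?_⟩
  have h1 : centralizer ({(x : G)} : Set G) = T := by
    apply le_antisymm (h x x.2 hx')
    intro y hy
    rw [mem_centralizer_singleton_iff]
    have h2 := (IsCyclic.isMulCommutative (α := ↥T)).is_comm.comm ⟨y, hy⟩ x
    exact congrArg Subtype.val h2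
  rw [h1, hn]

theorem exists_73 (hK : Fintype.card K = 3) : ∃ x : ↥(chevF4.group K), orderOf x = 73 ∧
    Nat.card (centralizer ({x} : Set ↥(chevF4.group K))) = 73 := by
  obtain ⟨T, h1, h2, h3⟩ := H798.RowTw.f4_torus 3 hK
  exact exists_cent h1 (by norm_num) (show Nat.card ↥T = 73 by omega) (dvd_refl _) (h3 73 (by norm_num))

theorem exists_41 (hK : Fintype.card K = 3) : ∃ x : ↥(chevF4.group K), orderOf x = 41 ∧
    Nat.card (centralizer ({x} : Set ↥(chevF4.group K))) = 82 := by
  obtain ⟨T, h1, h2, h3⟩ := H892.TExc.T_F4_8 (u := 3) (N := 82) hK (by norm_num) (r := 41) (by norm_num) (by norm_num)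
    (by norm_num)
  exact exists_cent h1 (by norm_num) h2 (by norm_num) h3

theorem card_eq (hK : Fintype.card K = 3) :
    Nat.card ↥(chevF4.group K) = 5734420792816671844761600 := by
  rw [S1062.result hK]
  norm_num

theorem two_ne (hK : Fintype.card K = 3) : (2 : K) ≠ 0 := by
  intro h
  have h1 : ((3 : ℕ) : K) = 0 := by rw [← hK]; exact FiniteField.cast_card_eq_zero K
  have h2 : (3 : K) - 2 = 1 := by ring
  push_cast at h1
  rw [h1, h, sub_zero] at h2
  exact zero_ne_one h2

omit [Fintype K] in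
theorem simple : IsSimpleGroup ↥(chevF4.group K) := (S1054.result chevF4 (by simp)).1

/-- the degrees -/
theorem deg_ge (hK : Fintype.card K = 3) (χ : IrrCharacter ↥(chevF4.group K)) (h : (χ : ↥(chevF4.group K) → ℂ) ≠ 1) :
    2187 ≤ charDegree (χ : ↥(chevF4.group K) → ℂ) := by
  obtain ⟨χ, n, ρ, hρ, hχ⟩ := χ
  change χ ≠ 1 at h
  show 2187 ≤ charDegree χ
  have hdeg : charDegree χ = n := by
    apply H687.charDegree_of_eq
    rw [← hχ, Representation.char_one, Module.finrank_fin_fun]
  by_cases h1 : ∃ g, ρ g ≠ 1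
  · have h2 := H622.KGV.Deg.f4_odd (two_ne hK) simple ρ h1
    rw [hK, Module.finrank_fin_fun] at h2
    rw [hdeg]
    by_contra h3
    push Not at h3
    have h4 : n ^ 2 ≤ 2186 ^ 2 := Nat.pow_le_pow_left (by omega) 2
    norm_num at h2 h4
    omega
  · exfalso
    push Not at h1
    have h5 : ∀ g, χ g = χ 1 := by
      intro g
      rw [← hχ]
      show LinearMap.trace ℂ _ (ρ g) = LinearMap.trace ℂ _ (ρ 1)
      rw [h1 g, h1 1]
    have h8 : IsIrrCharacter ↥(chevF4.group K) χ := ⟨n, ρ, hρ, hχ⟩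
    have h9 := H626.ip_self h8
    have h10 : χ = (n : ℂ) • (1 : ↥(chevF4.group K) → ℂ) := by
      funext g
      rw [h5 g, ← hχ, Representation.char_one, Module.finrank_fin_fun]
      simp
    rw [h10, H626.ip_smul_left, H626.ip_smul_right, H626.ip_self Characters.Core.isIrr_one, Complex.conj_natCast,
      mul_one] at h9
    have h11 : n * n = 1 := by exact_mod_cast h9
    rw [Nat.eq_one_of_mul_eq_one_left h11] at h10
    exact h (by rw [h10]; simp)

def N : ℕ := 5734420792816671844761600

def L : List (ℕ × ℕ) := [(2, 15), (3, 24), (5, 2), (7, 2), (13, 2), (41, 1), (73, 1)]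

def Ds : List PD := [⟨73, 1, 12, 6, [(0, 0), (1, 6), (72, -6), (12, -1), (61, 1)], 438, 6, true⟩,
  ⟨41, 2, 8, 5, [(0, 0), (1, 5), (40, -5), (8, -1), (33, 1)], 410, 0, false⟩]

theorem prod (hK : Fintype.card K = 3) {g : ↥(chevF4.group K)}
    (hg : Nat.card (centralizer ({g} : Set ↥(chevF4.group K))) ≤ 4976985092) :
    ∃ x y : ↥(chevF4.group K), orderOf x = 73 ∧ orderOf y = 41 ∧ g = x * y := by
  have := simple (K := K)
  have hfin : Finite (IrrCharacter ↥(chevF4.group K)) := Characters.Core.finite_irr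
  have := Fintype.ofFinite (IrrCharacter ↥(chevF4.group K))
  refine avg (N := N) (L := L) (card_eq hK) (by
      intro h
      have h1 : 2 ∣ N := by decide
      have h2 := (Nat.prime_dvd_prime_iff_eq Nat.prime_two h).1 h1
      exact absurd h2 (by decide)) (by decide +kernel) (by decide +kernel) (Ds := Ds) (by decide +kernel) ?_ (Cs := [])
    (by simp) (A := fun d => Nat.ble 2187 d) (fun χ hχ => Nat.ble_eq_true_of_le (deg_ge hK χ hχ)) 0 1 rfl rfl 1000000000000
    100000000000000000 0 [⟨0, 30664810, 790341612, [-33797771]⟩, ⟨0, 1, 0, []⟩] [] 4976985092 (by decide +kernel) hg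
  intro D hD
  simp only [Ds, List.mem_cons, List.not_mem_nil, or_false] at hD
  rcases hD with rfl | rfl
  · exact exists_73 hK
  · exact exists_41 hK

end Cfsg.Agent.H938.Pw.FThree
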